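import Cfsg.Agent.Lib.J4C.A
import Cfsg.Agent.Lib.Comp.XCen
import Cfsg.Agent.Lib.Comp.M22x.Main
import Cfsg.Agent.Lib.Golay.C2

/-! The structure of a group generated like the involution centraliser of the fourth Janko group. -/

set_option autoImplicit false
set_option maxRecDepth 100000

namespace Cfsg.Lib.J4C

open Cfsg.Lib.Comp Subgroup Cfsg.Lib.MatB

theorem two_dvd_index {X : Type*} [Group X] {a s : X} (h : s * a * s⁻¹ = a⁻¹) (h2 : a⁻¹ ≠ a) :
    2 ∣ (centralizer {a}).index := by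
  have k : ∀ g : X, g ∈ centralizer {a} ↔ g * a * g⁻¹ = a := fun g => by
    rw [mem_centralizer_singleton_iff, mul_inv_eq_iff_eq_mul]
  have i : ∀ g : X, g * a⁻¹ * g⁻¹ = (g * a * g⁻¹)⁻¹ := fun g => by group
  have m : ∀ g b : X, g * b * a * (g * b)⁻¹ = g * (b * a * b⁻¹) * g⁻¹ := fun g b => by group
  let T : Subgroup X :=
    { carrier := {g | g * a * g⁻¹ = a ∨ g * a * g⁻¹ = a⁻¹}
      one_mem' := Or.inl (by simp)
      mul_mem' := by
        rintro g b (hg | hg) (hb | hb) <;> simp only [Set.mem_ofPred_eq, m, hb, i, hg, inv_inv, true_or, or_true]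
      inv_mem' := by
        rintro g (hg | hg)
        · exact Or.inl (by nth_rewrite 1 [← hg]; group)
        · refine Or.inr ?_
          have : a = g * a⁻¹ * g⁻¹ := by rw [i, hg, inv_inv]
          nth_rewrite 1 [this]; group }
  have h1 : centralizer {a} ≤ T := fun g hg => Or.inl ((k g).1 hg)
  rw [← relIndex_mul_index h1]
  refine Dvd.dvd.mul_right (dvd_of_eq (index_eq_two_iff.2 ⟨⟨s, Or.inr h⟩, ?_⟩).symm) _
  rintro ⟨b, hb | hb⟩
  · refine Or.inr ⟨(k b).2 hb, fun e => h2 ?_⟩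
    have := (k (b * s)).1 e
    rwa [m, h, i, hb] at this
  · refine Or.inl ⟨(k (b * s)).2 (by rw [m, h, i, hb, inv_inv]), fun e => h2 ?_⟩
    exact hb.symm.trans ((k b).1 e)

theorem m22_simple : IsSimpleGroup (cl (gp M22x.nets) M22x.L) := by
  obtain ⟨e⟩ := M22x.perm
  have := Golay.simple_M22
  exact e.symm.isSimpleGroup

theorem arith {a b c : ℕ} (hd : 2 * a * (443520 * b * (3 * 2 ^ 13 * c)) ∣ 86775571046077562880)
    (hl : 2 * a * (443520 * b * (3 * 2 ^ 13 * c)) ≤ 211392921600) : a = 1 ∧ b = 1 ∧ c = 1 := by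
  have e : 2 * a * (443520 * b * (3 * 2 ^ 13 * c)) = 21799895040 * (a * b * c) := by ring
  rw [e] at hd hl
  have h1 : a * b * c ∣ 3980549947 := Nat.dvd_of_mul_dvd_mul_left (k := 21799895040) (by norm_num) hd
  have h2 : a * b * c = 1 := by
    generalize a * b * c = m at *
    have : m ≤ 9 := by omega
    interval_cases m <;> first | rfl | exact absurd h1 (by norm_num)
  exact ⟨Nat.eq_one_of_mul_eq_one_right (Nat.eq_one_of_mul_eq_one_right h2),
    Nat.eq_one_of_mul_eq_one_left (Nat.eq_one_of_mul_eq_one_right h2), Nat.eq_one_of_mul_eq_one_left h2⟩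

theorem core {Γ : Type} [Group Γ] [Finite Γ] {γ : ℕ → Γ} (hz : orderOf (γ 8) = 2) (hc : ∀ g, Commute g (γ 8))
    (hsq : ∀ x ∈ LQ, γ x ^ 2 ∈ zpowers (γ 8))
    (hcm : ∀ i < 12, ∀ j < 12, γ (11 + i) * γ (11 + j) =
      (if j = i ^^^ 1 then γ 8 else 1) * (γ (11 + j) * γ (11 + i)))
    (hn : ∀ g ∈ [23, 24], ∀ x ∈ LQ, γ g * γ x * (γ g)⁻¹ ∈ cl γ LQ)
    (h23 : Commute (γ 23) (γ 9)) (h24 : γ 24 * γ 9 * (γ 24)⁻¹ = (γ 9)⁻¹) (hw : orderOf (γ 9) = 3)
    (hA : ∀ x ∈ M22x.L, γ x ∈ cl γ [23, 24] ∧ Commute (γ x) (γ 9)) (h9 : γ 9 = γ 7 * γ 7)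
    (hR : ∀ r ∈ RW.map Prod.fst, ev γ r.1 ^ (r.2 + 1) ∈ cl γ [8, 9]) (h7 : orderOf (ev γ [2, 6, 4]) = 7)
    (hd : Nat.card Γ ∣ 86775571046077562880) (hl : Nat.card Γ ≤ 211392921600) :
    ∃ Q N M : Subgroup Γ, Q.Normal ∧ N.Normal ∧ Q ≤ N ∧ N ≤ M ∧ Nat.card Q = 2 ^ 13 ∧ IsExtraspecial 2 Q ∧
      Nat.card N = 3 * 2 ^ 13 ∧ M.index = 2 ∧ ∃ (_ : (N.subgroupOf M).Normal), IsM22 (M ⧸ N.subgroupOf M) := by
  have : Fact (Nat.Prime 2) := Nat.fact_prime_two
  have z1 : γ 8 ≠ 1 := fun e => by rw [e, orderOf_one] at hz; exact absurd hz (by norm_num)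
  have b3 : γ 8 ∈ cl γ LQ := mem_cl (by decide)
  obtain ⟨c1, c2⟩ := XC.comm_mem (z := γ 8) (γ := γ) (L := LQ) (fun x _ => hc _) (fun x hx y hy => by
    rcases (by revert x y; decide : x = 8 ∨ y = 8 ∨ ∃ i < 12, ∃ j < 12, x = 11 + i ∧ y = 11 + j) with
      rfl | rfl | ⟨i, hi, j, hj, rfl, rfl⟩
    · rw [commutatorElement_eq_one_iff_commute.2 (hc _).symm]; exact one_mem _
    · rw [commutatorElement_eq_one_iff_commute.2 (hc _)]; exact one_mem _
    · rw [commutatorElement_def, hcm i hi j hj, mul_assoc, mul_assoc, mul_assoc, mul_inv_cancel_left, mul_inv_cancel,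
        mul_one]
      split_ifs
      exacts [mem_zpowers _, one_mem _]) hsq
  have x1 : ∀ i < 12, i ^^^ 1 < 12 := by decide
  have x2 : ∀ i < 12, ∀ j < i, i ^^^ 1 ≠ j ^^^ 1 := by decide
  have c3 := XC.pairs_le (Q := cl γ LQ) (a := fun i => γ (11 + i)) (b := fun i => γ (11 + (i ^^^ 1))) (k := 12)
    (fun i hi => mem_cl (by revert i; decide)) (fun i hi => mem_cl (by revert i; decide)) fun i hi =>
      ⟨fun e => by
        have := hcm i hi (i ^^^ 1) (x1 i hi)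
        rw [if_pos rfl, ← e.eq] at this
        exact z1 (mul_eq_right.1 this.symm), fun j hj => by
        have := hcm j (by omega) (i ^^^ 1) (x1 i hi)
        rwa [if_neg (x2 i hi j hj), one_mul] at this⟩
  have c4 : zpowers (γ 8) ≤ cl γ LQ ⊓ centralizer (cl γ LQ : Set Γ) := zpowers_le.2 ⟨b3, fun y _ => hc y⟩
  have c5 := card_le_of_le c4
  rw [Nat.card_zpowers, hz] at c5
  have q4 : ∀ x ∈ cl γ LQ, x ^ 4 = 1 := fun x hx => by
    obtain ⟨m, hm⟩ := c2 x hx
    rw [show 4 = 2 * 2 by rfl, pow_mul, ← hm, ← zpow_natCast, ← zpow_mul, mul_comm, zpow_mul, zpow_natCast, ← hz,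
      pow_orderOf_eq_one, one_zpow]
  obtain ⟨k, hk⟩ := IsPGroup.iff_card.1 (show IsPGroup 2 (cl γ LQ) from fun x => ⟨2, Subtype.ext (q4 x x.2)⟩)
  have k13 : 13 ≤ k := by
    have := (Nat.mul_le_mul_left _ c5).trans c3
    rw [hk, ← pow_succ] at this
    exact (Nat.pow_le_pow_iff_right (by norm_num)).1 this
  set Q := cl γ LQ with hQ
  set N := cl γ (9 :: LQ) with hN
  have QN : Q ≤ N := cl_mono fun x hx => List.mem_cons_of_mem _ hx
  have wN : γ 9 ∈ N := mem_cl List.mem_cons_self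
  set H := normalizer (Q : Set Γ) ⊓ normalizer (N : Set Γ) with hH
  have nrm : ∀ (L : List ℕ) (c : Γ), (∀ i ∈ L, c * γ i * c⁻¹ ∈ cl γ L) → c ∈ normalizer (cl γ L : Set Γ) :=
    fun L c h => by
      have h1 : cl γ L ≤ (cl γ L).comap (MulAut.conj c).toMonoidHom := cl_le.2 h
      exact mem_normalizer_fintype fun n hn => h1 hn
  have gH : cl γ [23, 24] ≤ H := cl_le.2 fun g hg => ⟨nrm _ _ (hn g hg), nrm _ _ (List.forall_mem_cons.2
    ⟨by
      rcases (by simpa using hg : g = 23 ∨ g = 24) with rfl | rfl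
      · rw [h23.eq, mul_inv_cancel_right]; exact wN
      · rw [h24]; exact inv_mem wN, fun x hx => QN (hn g hg x hx)⟩)⟩
  have wH : γ 9 ∈ H := h9 ▸ mul_mem (gH (hA 7 (by decide)).1) (gH (hA 7 (by decide)).1)
  have QH : Q ≤ H := le_inf le_normalizer (QN.trans le_normalizer)
  have : (Q.subgroupOf H).Normal := normal_subgroupOf_of_le_normalizer inf_le_left
  set π := QuotientGroup.mk' (Q.subgroupOf H) with hπ
  have π1 : ∀ g : H, π g = 1 ↔ (g : Γ) ∈ Q := fun g => QuotientGroup.eq_one_iff g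
  set K' := (centralizer {π ⟨γ 9, wH⟩}).comap π with hK'
  set K := K'.map H.subtype with hK
  have KH : K ≤ H := map_subtype_le _
  have mK : ∀ g (hg : g ∈ H), Commute (π ⟨g, hg⟩) (π ⟨γ 9, wH⟩) → g ∈ K := fun g hg h =>
    ⟨⟨g, hg⟩, mem_centralizer_singleton_iff.2 h, rfl⟩
  have NK : N ≤ K := cl_le.2 (List.forall_mem_cons.2 ⟨mK _ wH (Commute.refl _), fun x hx =>
    mK _ (QH (mem_cl hx)) (by rw [(π1 _).2 (mem_cl hx)]; exact Commute.one_left _)⟩)
  have w3 : γ 9 ^ 3 = 1 := hw ▸ pow_orderOf_eq_one _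
  have i2 : 2 ∣ K'.index := by
    rw [hK', index_comap_of_surjective _ (QuotientGroup.mk'_surjective _)]
    refine two_dvd_index (s := π ⟨γ 24, gH (mem_cl (by decide))⟩) ?_ fun e => ?_
    · rw [← map_inv, ← map_inv, ← map_mul, ← map_mul]; exact congrArg π (Subtype.ext h24)
    · rw [inv_eq_iff_mul_eq_one, ← map_mul, π1] at e
      have := orderOf_dvd_of_pow_eq_one (x := γ 9) (n := 8) (by
        rw [← q4 _ e, show 8 = 2 * 4 by rfl, pow_mul, pow_two]; rfl)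
      rw [hw] at this
      exact absurd this (by norm_num)
  have nK : (N.subgroupOf K).Normal := normal_subgroupOf_of_le_normalizer (KH.trans inf_le_right)
  obtain ⟨f, hf⟩ := XC.quot_inj M22x.nets_iv M22x.nets_rel M22x.ord M22x.lb (Rz := RW.map Prod.fst) (by decide +kernel)
    m22_simple (M := K) (Q := N) (γ := γ) (fun x hx => mK _ (gH (hA x hx).1)
      (Commute.map (show Commute (⟨γ x, gH (hA x hx).1⟩ : H) ⟨γ 9, wH⟩ from Subtype.ext (hA x hx).2) π))
    (fun r hr => cl_mono (by decide) (hR r hr)) (w := [2, 6, 4]) (by decide) fun e => by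
      have h1 : N ≤ ((zpowers (π ⟨γ 9, wH⟩)).comap π).map H.subtype := cl_le.2 (List.forall_mem_cons.2
        ⟨⟨⟨_, wH⟩, mem_zpowers _, rfl⟩, fun x hx => ⟨⟨_, QH (mem_cl hx)⟩, mem_comap.2 (by
          rw [(π1 ⟨_, QH (mem_cl hx)⟩).2 (mem_cl hx)]; exact one_mem _), rfl⟩⟩)
      obtain ⟨g, ⟨m, hm⟩, hg⟩ := h1 e
      have h2 : π (g ^ 3) = 1 := by
        rw [map_pow, ← hm, ← zpow_natCast, ← zpow_mul, mul_comm, zpow_mul, zpow_natCast, ← map_pow,
          show (⟨γ 9, wH⟩ : H) ^ 3 = 1 from Subtype.ext w3, map_one, one_zpow]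
      have h3 := q4 _ ((π1 _).1 h2)
      rw [coe_pow, ← pow_mul, show (g : Γ) = ev γ [2, 6, 4] from hg] at h3
      have := orderOf_dvd_of_pow_eq_one h3
      rw [h7] at this
      exact absurd this (by norm_num)
  obtain ⟨b, hb⟩ := card_dvd_of_injective f hf
  rw [M22x.card] at hb
  obtain ⟨c, hc'⟩ : 3 * 2 ^ 13 ∣ Nat.card N := Nat.Coprime.mul_dvd_of_dvd_of_dvd (by norm_num)
    (hw ▸ N.orderOf_dvd_natCard wN) ((pow_dvd_pow 2 k13).trans (hk ▸ card_dvd_of_le QN))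
  have e1 := relIndex_mul_index KH
  have e2 : K.relIndex H = K'.index := by
    rw [relIndex, hK, subgroupOf, comap_map_eq_self_of_injective H.subtype_injective]
  obtain ⟨a, ha⟩ := i2
  have e3 := K.index_mul_card
  rw [card_eq_card_quotient_mul_card_subgroup (N.subgroupOf K), Nat.card_congr (subgroupOfEquivOfLe NK).toEquiv, hb,
    hc', ← e1, e2, ha, mul_assoc 2] at e3
  rw [← e3] at hd hl
  obtain ⟨a1, rfl, rfl⟩ := arith hd hl
  have hT : H = ⊤ := index_eq_one.1 (Nat.eq_one_of_mul_eq_one_left a1)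
  have q13 : Nat.card Q = 2 ^ 13 := by
    have h1 := card_dvd_of_le QN
    rw [hk, hc', mul_one] at h1
    rw [hk, le_antisymm k13 ((Nat.pow_dvd_pow_iff_le_right (by norm_num)).1
      ((Nat.Coprime.pow_left k (by norm_num : Nat.Coprime 2 3)).dvd_of_dvd_mul_left h1))]
  have c6 := (eq_of_le_of_card_ge c4 (by
    rw [Nat.card_zpowers, hz]; rw [q13] at c3; omega)).symm
  have f2 := hf.bijective_of_nat_card_le (by rw [hb, M22x.card])
  have := m22_simple
  refine ⟨Q, N, K, normalizer_eq_top_iff.1 (eq_top_iff.2 (hT.ge.trans inf_le_left)),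
    normalizer_eq_top_iff.1 (eq_top_iff.2 (hT.ge.trans inf_le_right)), QN, NK, q13,
    PGrp.isExtraspecial_of_le_zpowers hz b3 c6 c1 c2 fun e => ?_, hc', ?_, nK,
    (MulEquiv.ofBijective f f2).symm.isSimpleGroup, hb⟩
  · rw [e, Nat.card_zpowers, hz] at q13
    exact absurd q13 (by norm_num)
  · rw [← e1, e2, ha, mul_assoc, a1, mul_one]

end Cfsg.Lib.J4C
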