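import Cfsg.Agent.Lib.J4C.B
import Cfsg.Agent.Lib.Golay.Label

/-! The order of an involution centraliser of the fourth Janko group. -/

set_option autoImplicit false
set_option maxRecDepth 100000

namespace Cfsg.Lib.J4C

open Cfsg.Lib.Comp Cfsg.Lib.Comp.J4 Subgroup Cfsg.Lib.MatB.F2 Cfsg.Lib.Golay MulAction

theorem fix_le {X Y : Type*} [Group X] [Finite X] [MulAction X Y] (u : X) (y : Y) :
    {x ∈ orbit X y | u • x = x}.ncard ≤ Nat.card (centralizer {u}) := by
  have h1 : ∀ x : {x ∈ orbit X y | u • x = x}, ∃ g : X, g • y = x := fun x => x.2.1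
  choose g hg using h1
  let r : X → X := Function.invFun fun h : X => h⁻¹ * u * h
  have hr : ∀ h, (r (h⁻¹ * u * h))⁻¹ * u * r (h⁻¹ * u * h) = h⁻¹ * u * h := fun h =>
    Function.invFun_eq (f := fun h : X => h⁻¹ * u * h) ⟨h, rfl⟩
  have h2 : ∀ p : {x ∈ orbit X y | u • x = x} × stabilizer X y, (g p.1 * p.2) • y = p.1 := fun p => by
    rw [mul_smul, mem_stabilizer_iff.1 p.2.2, hg]
  let Φ : {x ∈ orbit X y | u • x = x} × stabilizer X y → stabilizer X y × centralizer {u} := fun p =>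
    (⟨(g p.1 * p.2)⁻¹ * u * (g p.1 * p.2), by
      rw [mem_stabilizer_iff, mul_smul, mul_smul, h2, p.1.2.2, inv_smul_eq_iff, h2]⟩,
     ⟨g p.1 * p.2 * (r ((g p.1 * p.2)⁻¹ * u * (g p.1 * p.2)))⁻¹, by
      generalize g p.1 * p.2 = h
      have := hr h
      generalize r (h⁻¹ * u * h) = t at this
      rw [mem_centralizer_singleton_iff, mul_assoc, eq_mul_inv_of_mul_eq this]
      group⟩)
  have hΦ : Function.Injective Φ := fun p q e => by
    have e1 : (g p.1 * p.2)⁻¹ * u * (g p.1 * p.2) = (g q.1 * q.2)⁻¹ * u * (g q.1 * q.2) :=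
      congrArg (fun t => (t.1 : X)) e
    have e2 : g p.1 * p.2 * (r ((g p.1 * p.2)⁻¹ * u * (g p.1 * p.2)))⁻¹ =
      g q.1 * q.2 * (r ((g q.1 * q.2)⁻¹ * u * (g q.1 * q.2)))⁻¹ := congrArg (fun t => (t.2 : X)) e
    rw [e1, mul_left_inj] at e2
    have e3 : p.1 = q.1 := Subtype.ext (by rw [← h2, e2, h2])
    rw [e3, mul_right_inj] at e2
    exact Prod.ext e3 (Subtype.ext e2)
  have := Nat.card_le_card_of_injective Φ hΦ
  rw [Nat.card_prod, Nat.card_prod, mul_comm, Nat.card_coe_set_eq] at this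
  exact Nat.le_of_mul_le_mul_left this Nat.card_pos

theorem cen_map {Γ Δ : Type*} [Group Γ] [Group Δ] {φ : Γ →* Δ} (hφ : Function.Injective φ) (z : Γ) :
    Nat.card (centralizer {z}) = Nat.card ↥(φ.range ⊓ centralizer {φ z}) := by
  rw [← card_map_of_injective hφ]
  congr 2
  ext g
  constructor
  · rintro ⟨a, ha, rfl⟩
    exact ⟨⟨a, rfl⟩, mem_centralizer_singleton_iff.2 (by
      rw [← map_mul, mem_centralizer_singleton_iff.1 ha, map_mul])⟩
  · rintro ⟨⟨a, rfl⟩, ha⟩
    exact ⟨a, mem_centralizer_singleton_iff.2 (hφ (by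
      rw [map_mul, map_mul, mem_centralizer_singleton_iff.1 ha])), rfl⟩

theorem cen_n {y : cl gam LN} (hy : orderOf y = 2) :
    Nat.card (centralizer {y}) = 21504 ∨ Nat.card (centralizer {y}) = 7680 := by
  obtain ⟨e1⟩ := J4p.perm
  obtain ⟨e2⟩ := n_iso
  have e := (e1.trans e2).symm
  have hφ : Function.Injective (M24.subtype.comp e.toMonoidHom) := M24.subtype_injective.comp e.injective
  rw [cen_map hφ y, MonoidHom.range_comp, MonoidHom.range_eq_top.2 e.surjective, ← MonoidHom.range_eq_map,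
    range_subtype]
  have c : ∀ z k, k ∈ M24 → Nat.card ↥(M24 ⊓ centralizer {k * z * k⁻¹}) = Nat.card ↥(M24 ⊓ centralizer {z}) :=
    fun z k hk => by
      have := (ConjA.base hk).inf_stab (toCj z)
      rw [smul_toCj, stabilizer_toCj, stabilizer_toCj] at this
      exact this.card_eq
  refine (M24_invol (e y).2 ((orderOf_injective _ hφ y).trans hy)).imp ?_ ?_ <;> rintro ⟨k, hk, h⟩
  exacts [(congrArg (fun t => Nat.card ↥(M24 ⊓ centralizer {t})) h).trans ((c _ k hk).trans card_C2A),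
    (congrArg (fun t => Nat.card ↥(M24 ⊓ centralizer {t})) h).trans ((c _ k hk).trans card_C2B)]

theorem cen_hom {X Y : Type*} [Group X] [Group Y] [Finite Y] (f : X →* Y) (e : X) :
    Nat.card (centralizer {e}) ≤ Nat.card (centralizer {f e}) * Nat.card ↥(f.ker ⊓ centralizer {e}) := by
  rw [card_eq_range_mul_ker (f.comp (centralizer {e}).subtype), ← MonoidHom.comap_ker, ← subgroupOf, card_subgroupOf,
    inf_comm]
  refine Nat.mul_le_mul_right _ (card_le_of_le ?_)
  rintro _ ⟨g, rfl⟩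
  exact mem_centralizer_singleton_iff.2 (Commute.map (mem_centralizer_singleton_iff.1 g.2) f)

theorem rp_gm : ∀ x < 64, Rp 112 (rho (gm x)) (Tm x) := fun x hx => by
  have := allN_iff.1 c_tm x hx
  rw [cnd_tt, beq_tt] at this
  rw [← this.2]; exact rho_ev this.1

theorem rp_evm {w : List ℕ} (h : small w = true) : Rp 112 (rho (ev gm w)) (evM 112 mR mI Tm w) := by
  rw [ev_map]; exact cx.ev rp_gm h

/-- The involution. -/
noncomputable def z0 : Spor.J4 := fm (ew ez)

theorem rz : Rp 112 (rho z0) (T 8) := by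
  rw [z0, fm_ev (by decide +kernel), ← beq_tt.1 c_z]; exact rp_evm (by decide +kernel)

theorem evV_eq {w : List ℕ} (h : ∀ x ∈ w, x < 64) (v : ℕ) :
    tV 112 (evV w v) = Matrix.vecMul (tV 112 v) (rho (ev gm w) : Matrix (Fin 112) (Fin 112) (ZMod 2)) := by
  induction w generalizing v with
  | nil => rw [ev_nil, map_one, Units.val_one, Matrix.vecMul_one]; rfl
  | cons x t ih =>
    have : evV (x :: t) v = evV t (mu 112 1 v (Tm x)) := rfl
    rw [this, ih fun y hy => h y (List.mem_cons_of_mem _ hy), (rp_gm x (h x List.mem_cons_self)).vec, ev_cons, map_mul,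
      Units.val_mul, Matrix.vecMul_vecMul]

theorem fn_w {w u : List ℕ} (h : subB w L = true) (e : frd iv (xpd [[], [1], [2], [3]] w) = u) :
    (fn (ew w) : Spor.J4) = ev gam u := by
  rw [fn_ev h, gn, ← ev_xpd, ← ev_frd gam_iv, e]

theorem cen_v : Nat.card ↥(fn.ker ⊓ centralizer {ew ez}) ≤ 64 := by
  classical
  have h1 := card_eq_orbit_mul fn.ker (toCj (ew ez))
  rw [stabilizer_toCj, ker_card] at h1
  have hk : ∀ k ∈ KS, subB k L = true ∧ ew k ∈ fn.ker := fun k hk => by
    have := allL_iff.1 c_k k hk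
    rw [cnd_tt, decide_eq_true_eq] at this
    exact ⟨this.1, Subtype.ext (fn_w this.1 this.2)⟩
  have hl : ∀ x ∈ L, x < 64 := by decide
  have hv : ∀ k ∈ KS, tV 112 (evV (apd k (apd ez (invA iv k []))) 1) = Matrix.vecMul (tV 112 1)
      (rho (fm (ew k * ew ez * (ew k)⁻¹)) : Matrix (Fin 112) (Fin 112) (ZMod 2)) := fun k h => by
    have a := fun x hx => hl x (sub_of_subB (hk k h).1 x hx)
    rw [evV_eq, apd_eq, apd_eq, ev_append, ev_append, ev_invA gm_ok.1 a, ev_nil, mul_one, map_mul fm, map_mul fm,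
      map_inv fm, fm_ev (hk k h).1, fm_ev (by decide +kernel), mul_assoc]
    revert k; decide +kernel
  have h2 : (KS.map fun k => toCj (ew k * ew ez * (ew k)⁻¹)).Nodup := by
    have := of_decide_eq_true c_d
    rw [Comp.mapL_eq] at this
    refine List.pairwise_map.2 ((List.pairwise_map.1 this).imp_of_mem fun {a b} ha hb h e => ?_)
    refine tV_ne (n := 112) ?_ ((hv a ha).trans ((congrArg (fun t : E => Matrix.vecMul (tV 112 1)
      (rho (fm t) : Matrix (Fin 112) (Fin 112) (ZMod 2))) e).trans (hv b hb).symm))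
    rw [← Bool.not_eq_true, beq_tt]; exact h
  have h3 : 32 ≤ (orbit fn.ker (toCj (ew ez))).ncard := by
    rw [show 32 = (KS.map fun k => toCj (ew k * ew ez * (ew k)⁻¹)).length by rw [List.length_map]; decide +kernel,
      ← List.toFinset_card_of_nodup h2, ← Set.ncard_coe_finset]
    refine Set.ncard_le_ncard (fun y hy => ?_) (Set.finite_range _)
    obtain ⟨k, a, rfl⟩ := List.mem_map.1 (List.mem_toFinset.1 hy)
    exact mem_orbit_toCj.2 ⟨_, (hk k a).2, rfl⟩
  nlinarith

theorem ord_of {g : Spor.J4} {A p : ℕ} (h : Rp 112 (rho g) A) (hp : p.Prime) (e : ordB 112 mR mI A p 0 = true) :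
    orderOf g = p := (orderOf_injective rho card_all.2.1 g).symm.trans (cx.ord h hp (by norm_num) e)

theorem cen_x : Nat.card (centralizer {fn (ew ez)}) = 7680 := by
  have e : (fn (ew ez) : Spor.J4) = ev gam [1] := fn_w (by decide +kernel) (by decide +kernel)
  have h5 := c_5
  rw [force_eq, cnd_tt] at h5
  have r5 := rho_ev (w := c5) (by decide +kernel)
  have m5 : ev gam c5 ∈ cl gam LN := ev_mem fun x hx => mem_cl (by revert x; decide +kernel)
  refine (cen_n ?_).resolve_left fun h => ?_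
  · rw [← orderOf_coe, e, ev_single]
    exact orderOf_eq_prime (by simpa [ev_single] using gam_rel ([1], 1) (by decide +kernel)) gam_ne
  · have h1 := (centralizer {fn (ew ez)}).orderOf_dvd_natCard (x := ⟨_, m5⟩) (mem_centralizer_singleton_iff.2
      (Subtype.ext (card_all.2.1 (by
        rw [coe_mul, coe_mul, e, map_mul, map_mul]
        exact cx.com r5 (rho_ev (by decide +kernel)) h5.2))))
    rw [h, ← orderOf_coe, ord_of r5 Nat.prime_five h5.1] at h1
    exact absurd h1 (by norm_num)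

theorem conj_u : ∃ g, g * z0 * g⁻¹ = ev gam uw := by
  have h := c_y
  rw [force_eq] at h
  have r := rho_ev (w := apd yw (apd uw yi)) (by decide +kernel)
  have h1 := (cx.mul r (cx.mul rz r)).eq (cx.mul rz (cx.mul r rz)) h
  simp only [← map_mul] at h1
  replace h1 := card_all.2.1 h1
  rw [apd_eq, apd_eq, ev_append, ev_append, show yi = invA iv yw [] by decide +kernel,
    ev_invA gam_iv (by decide), ev_nil, mul_one] at h1
  refine ⟨(ev gam yw)⁻¹ * z0 * (ev gam yw * (ev gam uw * (ev gam yw)⁻¹)), ?_⟩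
  rw [mul_assoc, mul_assoc, mul_assoc, ← mul_assoc (ev gam yw * _), ← mul_assoc z0, ← h1]
  group

theorem cen_le : Nat.card (centralizer {z0}) ≤ 211392921600 := by
  have : Finite (Spor.J4 ⧸ M) := quo.1
  rw [card_eq_orbit_mul (centralizer {z0}) ((1 : Spor.J4) : Spor.J4 ⧸ M), stabilizer_quotient, inf_comm, ← fm_range,
    z0, ← cen_map fm_inj, ← z0, fm_range]
  have h1 := (cen_hom fn (ew ez)).trans (Nat.mul_le_mul cen_x.le cen_v)
  refine (Nat.mul_le_mul (?_ : _ ≤ 430080) h1).trans (by norm_num)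
  obtain ⟨g, hg⟩ := conj_u
  have mu : ev gam uw ∈ cl gam LN := ev_mem fun x hx => mem_cl (by revert x; decide +kernel)
  have ou : orderOf (⟨_, mu⟩ : cl gam LN) = 2 := by
    rw [← orderOf_coe]; exact ord_of (rho_ev (by decide +kernel)) Nat.prime_two c_u
  obtain ⟨-, h2⟩ := MatB.J4L.card_le_sum (l := J4n.uV)
    (S := fun v => {x ∈ orbit (cl gam LN) (nd v.1) | (⟨_, mu⟩ : cl gam LN) • x = x}) fun v _ => Set.toFinite _
  refine le_trans (Set.ncard_le_ncard_of_injOn (fun x => g • x) ?_ (MulAction.injective g).injOn) (h2.trans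
    ((List.sum_le_sum (g := fun _ => 21504) fun v _ => (fix_le _ _).trans ?_).trans (by decide +kernel)))
  · rintro _ ⟨⟨c, hc⟩, rfl⟩
    obtain ⟨v, hv, e⟩ := cover.2 (g • c • ((1 : Spor.J4) : Spor.J4 ⧸ M))
    refine ⟨v, hv, e, ?_⟩
    change ev gam uw • g • c • ((1 : Spor.J4) : Spor.J4 ⧸ M) = g • c • ((1 : Spor.J4) : Spor.J4 ⧸ M)
    rw [← hg, ← mul_smul, inv_mul_cancel_right, mul_smul, ← mul_smul z0, ← mem_centralizer_singleton_iff.1 hc, mul_smul,
      (smul_one_of_mem (a := z0)).2 (fm_range ▸ ⟨_, rfl⟩)]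
  · rcases cen_n ou with h | h <;> omega

theorem letters : ∃ γ : ℕ → centralizer {z0}, ∀ x < 64, Rp 112 (rho (γ x)) (T x) := by
  obtain ⟨l, h, hl⟩ := cx.slp in_acc c_slp
  have : ∀ x, ∃ g : centralizer {z0}, x < 64 → Rp 112 (rho g) (T x) := fun x => by
    by_cases hx : x < 25
    · obtain ⟨g, -, hg⟩ := hl (nth 0 IX x)
      rw [beq_tt.1 (allN_iff.1 h x hx)] at hg
      exact ⟨⟨g, mem_centralizer_singleton_iff.2 (card_all.2.1 (by
        rw [map_mul, map_mul]; exact cx.com hg rz (allN_iff.1 c_com x hx)))⟩, fun _ => hg⟩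
    · refine ⟨1, fun _ => ?_⟩
      rw [T, nth_eq, List.getD_eq_default _ _ (not_lt.1 hx), coe_one, map_one]
      exact cx.one
  choose γ hγ using this
  exact ⟨γ, hγ⟩

theorem main : orderOf z0 = 2 ∧ ∃ Q N M : Subgroup (centralizer {z0}), Q.Normal ∧ N.Normal ∧ Q ≤ N ∧ N ≤ M ∧
    Nat.card Q = 2 ^ 13 ∧ IsExtraspecial 2 Q ∧ Nat.card N = 3 * 2 ^ 13 ∧ M.index = 2 ∧
    ∃ (_ : (N.subgroupOf M).Normal), IsM22 (M ⧸ N.subgroupOf M) := by
  obtain ⟨γ, hγ⟩ := letters
  let f := rho.comp (centralizer {z0}).subtype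
  have hf : Function.Injective f := card_all.2.1.comp Subtype.val_injective
  have r : ∀ {w : List ℕ}, small w = true → Rp 112 (f (ev γ w)) (evM 112 mR mI T w) := fun h => by
    rw [ev_map]; exact cx.ev hγ h
  have q : ∀ {u v : List ℕ}, eqB u v = true → ev γ u = ev γ v := fun h => by
    unfold eqB at h
    rw [cnd_tt, cnd_tt] at h
    exact hf ((r h.1).eq (r h.2.1) h.2.2)
  have o : ∀ {g : centralizer {z0}} {A p : ℕ}, Rp 112 (f g) A → p.Prime → ordB 112 mR mI A p 0 = true →
      orderOf g = p := fun h hp e => (orderOf_injective f hf _).symm.trans (cx.ord h hp (by norm_num) e)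
  have ho := c_ord
  have hw := c_w
  simp only [cnd_tt] at ho hw
  have e8 : (γ 8 : Spor.J4) = z0 := card_all.2.1 ((hγ 8 (by norm_num)).eq rz (Nat.beq_refl _))
  refine ⟨ord_of rz Nat.prime_two ho.1, core (γ := γ) (o (hγ 8 (by norm_num)) Nat.prime_two ho.1)
    (fun g => Subtype.ext (by rw [coe_mul, coe_mul, e8]; exact mem_centralizer_singleton_iff.1 g.2))
    (fun x hx => ?_) (fun i hi j hj => ?_) (fun g hg x hx => ?_) (by simpa [ev, commute_iff_eq] using q hw.1) ?_
    (o (hγ 9 (by norm_num)) Nat.prime_three ho.2.1) (fun x hx => ?_) (by simpa [ev] using q hw.2.2) (fun s hs => ?_)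
    (o (r (by decide +kernel)) Nat.prime_seven ho.2.2) (card_all.1 ▸ card_subgroup_dvd_card _) cen_le⟩
  · have h := allL_iff.1 c_sq x hx
    cases k : eqB [x, x] []
    · rw [k] at h
      rw [pow_two, show γ x * γ x = γ 8 by simpa [ev] using q h]; exact mem_zpowers _
    · rw [pow_two, show γ x * γ x = 1 by simpa [ev] using q k]; exact one_mem _
  · have h := q (allN_iff.1 (allN_iff.1 c_cm i hi) j hj)
    split_ifs with e
    · rw [show Nat.beq j (Nat.xor i 1) = true from beq_tt.2 e, cnd_true] at h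
      simpa [ev] using h
    · rw [show Nat.beq j (Nat.xor i 1) = false by rw [← Bool.not_eq_true, beq_tt]; exact e, cnd_false] at h
      simpa [ev] using h
  · obtain ⟨p, hp, rfl, rfl⟩ : ∃ p ∈ TW, p.1 = g ∧ p.2.1 = x := by revert g x; decide +kernel
    have h := allL_iff.1 c_nq p hp
    rw [cnd_tt] at h
    have e := q h.2
    simp only [apd_eq, ev_append, ev_cons, ev_nil, mul_one] at e
    rw [e, mul_inv_cancel_right]
    exact ev_mem fun u hu => mem_cl (sub_of_subB h.1 u hu)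
  · have e := q hw.2.1
    simp only [ev_cons, ev_nil, mul_one] at e
    rw [mul_inv_eq_iff_eq_mul, eq_inv_mul_iff_mul_eq, e]
  · obtain ⟨p, hp, rfl⟩ : ∃ p ∈ VA, p.1 = x := by revert x; decide +kernel
    have h := allL_iff.1 c_va p hp
    rw [cnd_tt, cnd_tt] at h
    exact ⟨by rw [← ev_single γ, q h.2.1]; exact ev_mem fun u hu => mem_cl (sub_of_subB h.1 u hu),
      by simpa [ev, commute_iff_eq] using q h.2.2⟩
  · obtain ⟨p, hp, rfl⟩ := List.mem_map.1 hs
    have h := allL_iff.1 c_rw p hp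
    simp only [cnd_tt] at h
    rw [hf (by rw [map_pow]; exact (cx.pow (r h.2.1) _).eq (r h.2.2.1) h.2.2.2 : f (ev γ p.1.1 ^ (p.1.2 + 1)) = f (ev γ p.2))]
    exact ev_mem fun u hu => mem_cl (sub_of_subB h.1 u hu)

end Cfsg.Lib.J4C
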